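import Groth.Agent.FEtLib.Normal
import Groth.Agent.CAlgNormal.Basic
import Groth.Agent.Hensel.HenselizationNormal
import Groth.Agent.RegLocus.Fiber
import Mathlib.RingTheory.RingHom.StandardSmooth

/-!
# Normality is smooth local
-/

set_option autoImplicit false

noncomputable section

universe u

open TensorProduct

namespace Groth.Agent.NormalSmooth

theorem isNormalRing_mvPolynomial (A : Type u) [CommRing A] (hA : EGA4.IsNormalRing A) :
    ∀ n, EGA4.IsNormalRing (MvPolynomial (Fin n) A)
  | 0 => RegLocus.isNormalRing_of_equiv (MvPolynomial.isEmptyRingEquiv A (Fin 0)).symm hA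
  | n + 1 => RegLocus.isNormalRing_of_equiv (MvPolynomial.finSuccEquiv A n).toRingEquiv.symm
      (CAlgNormal.isNormalRing_polynomial (isNormalRing_mvPolynomial A hA n))

attribute [local instance] Algebra.TensorProduct.rightAlgebra in
/-- Local rings of étale algebras over normal rings are normal domains. -/
theorem isNormalRing_of_etale (P S : Type u) [CommRing P] [CommRing S] [Algebra P S]
    [Algebra.Etale P S] (hP : EGA4.IsNormalRing P) : EGA4.IsNormalRing S := fun Q _ => by
  let p := Q.comap (algebraMap P S)
  haveI : p.IsPrime := Ideal.IsPrime.comap _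
  obtain ⟨hd, hc⟩ := hP p
  let R := Localization.AtPrime p
  let E := R ⊗[P] S
  let L := Localization.AtPrime Q
  letI : Algebra R L := (Localization.localRingHom p Q (algebraMap P S) rfl).toAlgebra
  haveI : IsScalarTower P R L := .of_algebraMap_eq fun x => by
    rw [IsScalarTower.algebraMap_apply P S L]
    exact (Localization.localRingHom_to_map p Q (algebraMap P S) rfl x).symm
  letI : Algebra E L :=
    (Algebra.TensorProduct.lift (Algebra.ofId R L) (IsScalarTower.toAlgHom P S L)
      fun _ _ => Commute.all _ _).toRingHom.toAlgebra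
  haveI : IsScalarTower R E L := .of_algebraMap_eq fun x => by
    show algebraMap R L x = Algebra.TensorProduct.lift (Algebra.ofId R L)
      (IsScalarTower.toAlgHom P S L) (fun _ _ => Commute.all _ _) (x ⊗ₜ 1)
    simp
  haveI : IsScalarTower S E L := .of_algebraMap_eq fun x => by
    show algebraMap S L x = Algebra.TensorProduct.lift (Algebra.ofId R L)
      (IsScalarTower.toAlgHom P S L) (fun _ _ => Commute.all _ _) (1 ⊗ₜ x)
    simp
  haveI : IsLocalization (Algebra.algebraMapSubmonoid S p.primeCompl) E := inferInstance
  haveI := IsLocalization.isLocalization_of_submonoid_le E L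
    (Algebra.algebraMapSubmonoid S p.primeCompl) Q.primeCompl (by
      rintro _ ⟨x, hx, rfl⟩
      exact hx)
  exact FEtLib.isNormal_loc R E L (Q.primeCompl.map (algebraMap S E))

/-- Smooth algebras over normal rings are normal. -/
theorem isNormalRing_of_smooth (A B : Type u) [CommRing A] [CommRing B] [Algebra A B]
    [Algebra.Smooth A B] (hA : EGA4.IsNormalRing A) : EGA4.IsNormalRing B := fun Q _ => by
  obtain ⟨S, hS, hstd⟩ := Algebra.Smooth.exists_span_eq_top_isStandardSmooth A B
  obtain ⟨s, hs, hsQ⟩ : ∃ s ∈ S, s ∉ Q := by
    by_contra! h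
    exact Ideal.IsPrime.ne_top ‹_› (top_le_iff.mp (hS ▸ Ideal.span_le.mpr h))
  have := hstd s hs
  obtain ⟨n, g, -, hg⟩ := RingHom.IsStandardSmooth.exists_etale_mvPolynomial
    (RingHom.isStandardSmooth_algebraMap.mpr this :
      (algebraMap A (Localization.Away s)).IsStandardSmooth)
  algebraize [g]
  have hBs := isNormalRing_of_etale (MvPolynomial (Fin n) A) (Localization.Away s)
    (isNormalRing_mvPolynomial A hA n)
  let Q' := Q.map (algebraMap B (Localization.Away s))
  have hdisj : Disjoint (Submonoid.powers s : Set B) Q := by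
    rw [Ideal.disjoint_powers_iff_notMem s (Ideal.IsPrime.isRadical ‹_›)]
    exact hsQ
  haveI : Q'.IsPrime := IsLocalization.isPrime_of_isPrime_disjoint (Submonoid.powers s) _ Q ‹_› hdisj
  obtain ⟨h1, h2⟩ := hBs Q'
  have hQ : Q'.comap (algebraMap B (Localization.Away s)) = Q :=
    IsLocalization.comap_map_of_isPrime_disjoint (Submonoid.powers s) _ ‹_› hdisj
  haveI : IsLocalization.AtPrime (Localization.AtPrime Q') Q := by
    have := IsLocalization.isLocalization_isLocalization_atPrime_isLocalization (Submonoid.powers s)
      (Localization.AtPrime Q') Q'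
    simpa only [hQ] using this
  let e := (IsLocalization.algEquiv Q.primeCompl (Localization.AtPrime Q') (Localization.AtPrime Q)).toRingEquiv
  haveI : IsDomain (Localization.AtPrime Q) := e.symm.toMulEquiv.isDomain
  exact ⟨inferInstance, IsIntegrallyClosed.of_equiv e⟩

/-- Normality descends along faithfully flat maps. -/
theorem isNormalRing_of_faithfullyFlat (A B : Type u) [CommRing A] [CommRing B] [Algebra A B]
    [Module.FaithfullyFlat A B] (hB : EGA4.IsNormalRing B) : EGA4.IsNormalRing A := fun p _ => by
  obtain ⟨Q, hQ⟩ := PrimeSpectrum.comap_surjective_of_faithfullyFlat (A := A) (B := B) ⟨p, ‹_›⟩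
  have e : p = Q.asIdeal.comap (algebraMap A B) := (congrArg PrimeSpectrum.asIdeal hQ).symm
  obtain ⟨h1, h2⟩ := hB Q.asIdeal
  letI := (Localization.localRingHom p Q.asIdeal (algebraMap A B) e).toAlgebra
  haveI : IsScalarTower A (Localization.AtPrime p) (Localization.AtPrime Q.asIdeal) :=
    .of_algebraMap_eq fun x => by
      rw [IsScalarTower.algebraMap_apply A B (Localization.AtPrime Q.asIdeal)]
      exact (Localization.localRingHom_to_map p Q.asIdeal (algebraMap A B) e x).symm
  haveI : IsLocalHom (algebraMap (Localization.AtPrime p) (Localization.AtPrime Q.asIdeal)) :=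
    Localization.isLocalHom_localRingHom p Q.asIdeal (algebraMap A B) e
  haveI : Module.Flat A (Localization.AtPrime Q.asIdeal) :=
    Module.Flat.trans A B (Localization.AtPrime Q.asIdeal)
  haveI : Module.Flat (Localization.AtPrime p) (Localization.AtPrime Q.asIdeal) :=
    (Module.flat_iff_of_isLocalization (Localization.AtPrime p) p.primeCompl _).2 inferInstance
  haveI : Module.FaithfullyFlat (Localization.AtPrime p) (Localization.AtPrime Q.asIdeal) :=
    Module.FaithfullyFlat.of_flat_of_isLocalHom
  exact Hensel.isNormal_of_faithfullyFlat _ (Localization.AtPrime Q.asIdeal)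

end Groth.Agent.NormalSmooth
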